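import Groth.Agent.PicCurve.DivClass
import Groth.Agent.VeryAmpleX.PnTensor
import Groth.Agent.InvX.GenEpi
import Groth.Agent.HilbPoly.Pos
import Groth.Agent.InvX.GenLocus

/-!
# Very ample modules are generated; zero schemes after composing with morphisms of invertible modules
-/

noncomputable section

set_option autoImplicit false
set_option linter.style.haveILetI false
set_option linter.unusedSectionVars false
set_option backward.isDefEq.respectTransparency false
set_option backward.isDefEq.respectTransparency.types false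
set_option maxHeartbeats 1000000
set_option synthInstance.maxHeartbeats 400000
attribute [-instance] CategoryTheory.catToReflQuiver

universe u

open CategoryTheory CategoryTheory.Limits AlgebraicGeometry TopologicalSpace Opposite
open Groth.Agent.InvX Groth.Agent.AModX

namespace Groth.Agent.FibreGrowth

open Groth.Agent

/-- A very ample module is globally generated. -/
theorem isGloballyGenerated_of_relVeryAmplePn {X S : Scheme.{u}} {f : X ⟶ S} {L : X.Modules}
    (hva : RelAmple.IsRelVeryAmplePn f L) : Curv2.IsGloballyGenerated L := by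
  obtain ⟨n, i, hi, hif, ⟨eL⟩⟩ := hva
  let Z := ULift.{u} ℤ
  let π : CohB1.ProjSpaceOver n S ⟶ CohB1.ProjSpace n Z := pullback.fst _ _
  let τ₀ : (Scheme.Modules.pullback (i ≫ π)).obj (Twist.twistProjSpace n Z 1) ≅ L :=
    ((Scheme.Modules.pullbackComp i π).app _).symm ≪≫ eL.symm
  let l : ULift.{u} (Fin (n + 1)) → Γ(L, ⊤) := fun a =>
    τ₀.hom.app ⊤ (ProjUP.pullSec (i ≫ π) _ (ProjUP.coord n Z a.down))
  refine InvX.isGloballyGenerated_of_generated (VeryAmple.generatedBy_of_locus l fun x => ?_)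
  obtain ⟨a, ha⟩ := Opens.mem_iSup.1
    ((AmpleEmbed.iSup_basicOpen_X n Z).ge (trivial : (i ≫ π) x ∈ (⊤ : Opens _)))
  exact ⟨ULift.up a, (AmpleEmbed.preimage_chart (i ≫ π) τ₀ a rfl).le ha⟩

variable {X : Scheme.{u}} {L M : X.Modules}

theorem sv_comp (s : Coh.structureModule X ⟶ L) (ψ : L ⟶ M) (U : X.Opens) :
    ZeroSchX.sv (s ≫ ψ) U = ψ.app U (ZeroSchX.sv s U) := rfl

theorem bijective_app_of_isIso_restrict (ψ : L ⟶ M) {W V : X.Opens}
    (hW : IsIso ((Scheme.Modules.restrictFunctor W.ι).map ψ)) (hV : V ≤ W) : Function.Bijective (ψ.app V) := by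
  have h := (Scheme.Modules.Hom.isIso_iff_isIso_app.mp hW) (W.ι ⁻¹ᵁ V)
  have e : W.ι ''ᵁ (W.ι ⁻¹ᵁ V) = V := by
    rw [Scheme.Hom.image_preimage_eq_opensRange_inf, Scheme.Opens.opensRange_ι, inf_eq_right]
    exact hV
  have hb : Function.Bijective (ψ.app (W.ι ''ᵁ (W.ι ⁻¹ᵁ V))) := ConcreteCategory.bijective_of_isIso
    (((Scheme.Modules.restrictFunctor W.ι).map ψ).app (W.ι ⁻¹ᵁ V))
  rwa [e] at hb

/-- A family of morphisms, one of which is an isomorphism near each point, does not change the zero scheme. -/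
theorem iSup_zeroScheme_comp (hL : PicF.IsInvertible L) (hM : PicF.IsInvertible M)
    (s : Coh.structureModule X ⟶ L) {κ : Type*} (ψ : κ → (L ⟶ M))
    (hcov : ∀ x : X, ∃ (l : κ) (W : X.Opens), x ∈ W ∧ IsIso ((Scheme.Modules.restrictFunctor W.ι).map (ψ l))) :
    ⨆ l, PicF2.zeroScheme M (s ≫ ψ l) = PicF2.zeroScheme L s := by
  classical
  have hx : ∀ x : X, ∃ (V : X.affineOpens), x ∈ V.1 ∧ ∃ (e : Γ(L, V.1)) (e' : Γ(M, V.1)) (l : κ),
      IsFrame e ∧ IsFrame e' ∧ Function.Surjective ((ψ l).app V.1) := fun x => by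
    obtain ⟨U, hxU, e, e', he, he'⟩ := InvX.exists_frame₂ hL hM x
    obtain ⟨l, W, hxW, hW⟩ := hcov x
    obtain ⟨_, ⟨V, hV, rfl⟩, hxV, hVU⟩ :=
      X.isBasis_affineOpens.exists_subset_of_mem_open (show x ∈ U ⊓ W from ⟨hxU, hxW⟩) (U ⊓ W).isOpen
    have h1 : (V : X.Opens) ≤ U := fun y hy => (hVU hy).1
    exact ⟨⟨V, hV⟩, hxV, _, _, l, he.res h1, he'.res h1,
      (bijective_app_of_isIso_restrict (ψ l) hW fun y hy => (hVU hy).2).2⟩
  choose V hxV e e' l he he' hsurj using hx
  refine Scheme.IdealSheafData.ext_of_iSup_eq_top V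
    (eq_top_iff.2 fun p _ => Opens.mem_iSup.2 ⟨p, hxV p⟩) fun x => ?_
  obtain ⟨c, hc⟩ := (he x).exists_coord le_rfl (ZeroSchX.sv s (V x).1)
  rw [res_self] at hc
  rw [Scheme.IdealSheafData.ideal_iSup, iSup_apply, ZeroSchX.ideal_zeroScheme hL,
    ZeroSchX.zeroIdealOn_eq_span s (he x) hc]
  choose d hd using fun m => (he' x).exists_coord le_rfl ((ψ m).app (V x).1 (e x))
  simp only [res_self] at hd
  have hcd : ∀ m, ZeroSchX.sv (s ≫ ψ m) (V x).1 = (c * d m) • e' x := fun m => by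
    rw [sv_comp, hc, Scheme.Modules.Hom.app_smul, hd m, mul_smul]
  refine le_antisymm (iSup_le fun m => ?_) (le_trans ?_ (le_iSup _ (l x)))
  · rw [ZeroSchX.ideal_zeroScheme hM, ZeroSchX.zeroIdealOn_eq_span _ (he' x) (hcd m),
      Ideal.span_singleton_le_span_singleton]
    exact dvd_mul_right c (d m)
  · rw [ZeroSchX.ideal_zeroScheme hM, ZeroSchX.zeroIdealOn_eq_span _ (he' x) (hcd (l x)),
      Ideal.span_singleton_le_span_singleton]
    obtain ⟨y, hy⟩ := hsurj x (e' x)
    obtain ⟨b, hb⟩ := (he x).exists_coord le_rfl y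
    rw [res_self] at hb
    rw [hb, Scheme.Modules.Hom.app_smul, hd (l x), ← mul_smul] at hy
    have h1 : b * d (l x) = 1 := by
      refine ((he' x) _ le_rfl).1 ?_
      show (b * d (l x)) • res M le_rfl (e' x) = (1 : Γ(X, (V x).1)) • res M le_rfl (e' x)
      rw [res_self, one_smul]
      exact hy
    exact ⟨b, by rw [mul_assoc, mul_comm (d (l x)), h1, mul_one]⟩

/-- A section of `N` gives a morphism `L ⟶ M` whenever `L ⊗ N ≅ M`, an isomorphism where it generates. -/
theorem exists_hom {N : X.Modules} (e : CohB1.tensorMod L N ≅ M) (t : Coh.structureModule X ⟶ N) :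
    ∃ ψ : L ⟶ M, ∀ x ∈ CohB1.genLocus N t,
      ∃ W : X.Opens, x ∈ W ∧ IsIso ((Scheme.Modules.restrictFunctor W.ι).map ψ) := by
  refine ⟨HilbPoly.mulHom t L ≫ e.hom, fun x hx => ?_⟩
  obtain ⟨W, hW, hxW⟩ : ∃ W : X.Opens, IsIso ((Scheme.Modules.restrictFunctor W.ι).map t) ∧ x ∈ W :=
    Opens.mem_sSup.1 hx
  refine ⟨W, hxW, ?_⟩
  haveI : IsIso ((Scheme.Modules.restrictFunctor W.ι).map t) := hW
  haveI := HilbPoly.isIso_restrict_mulHom t L (U := W)
  rw [Functor.map_comp]
  infer_instance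

end Groth.Agent.FibreGrowth

end
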