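import Groth.Agent.FibreGrowth.Uniform
import Groth.Agent.TFQuot.Fibres
import Groth.Agent.FibreGrowth.Homs
import Groth.Agent.AmpleX.Comp
import Groth.Agent.AVEuler.FibreRank
import Groth.Agent.HTopCov.AlmostBlowUp
import Mathlib.Algebra.MvPolynomial.Eval
import Mathlib.RingTheory.Polynomial.Basic

/-!
# Uniform cohomology bounds over the family of all intersections of a fixed number of divisors of a module
-/

noncomputable section

set_option autoImplicit false
set_option linter.style.haveILetI false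
set_option linter.unusedSectionVars false
set_option backward.isDefEq.respectTransparency false
set_option backward.isDefEq.respectTransparency.types false
set_option maxHeartbeats 1000000
set_option synthInstance.maxHeartbeats 400000
attribute [-instance] CategoryTheory.catToReflQuiver

universe u

open CategoryTheory CategoryTheory.Limits AlgebraicGeometry TopologicalSpace Opposite
open Groth.Agent.InvX Groth.Agent.AModX Groth.Agent.H23.PicMul

namespace Groth.Agent.FibreGrowth

open Groth.Agent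

variable (k : Type u) [Field k] {X : Scheme.{u}} [X.Over (Spec (CommRingCat.of k))]
  [IsProper (X ↘ Spec (CommRingCat.of k))]

/-- The combination of global sections with the given scalars. -/
abbrev combo {M : X.Modules} {R : ℕ} (σ : Fin R → Γ(M, ⊤)) (c : Fin R → k) : Γ(M, ⊤) :=
  ∑ r, (show Γ(X, ⊤) from Coh.toGlobal (X ↘ Spec (CommRingCat.of k)) (c r)) • σ r

theorem exists_bound_intersections {A : X.Modules} (hA : CohB1.IsAmple A) {D : X.Modules}
    (hD : PicF.IsInvertible D) {M : X.Modules} (hM : PicF.IsInvertible M) {R : ℕ} (σ : Fin R → Γ(M, ⊤))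
    (q : ℕ) :
    ∃ C : ℕ, ∀ (v : Fin q × Fin R → k) (Z : Scheme.{u}) [Z.Over (Spec (CommRingCat.of k))] (ι : Z ⟶ X)
      [IsClosedImmersion ι], ι ≫ (X ↘ Spec (CommRingCat.of k)) = Z ↘ Spec (CommRingCat.of k) →
      ι.ker = ⨆ a : Fin q, PicF2.zeroScheme M (ofSect (combo k σ fun r => v (a, r))) →
      ∀ e : ℕ, topologicalKrullDim ↥Z = e → ∀ m : ℕ, 1 ≤ m → ∀ i,
        Module.finrank k (Coh.HH Z ((Scheme.Modules.pullback ι).obj (CohB1.tensorPow D m)) i) ≤ C * m ^ e := by
  let P : Type u := MvPolynomial (Fin q × Fin R) k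
  let T : Scheme.{u} := Spec (CommRingCat.of P)
  let sX := X ↘ Spec (CommRingCat.of k)
  let sT : T ⟶ Spec (CommRingCat.of k) := Spec.map (CommRingCat.ofHom MvPolynomial.C)
  haveI : AlgebraicGeometry.IsNoetherian T := {}
  haveI := CurveCohLib.isNoetherian_of_proper (k := k) (X := X)
  let p := pullback.fst sX sT
  let π := pullback.snd sX sT
  haveI : IsAffineHom p := MorphismProperty.pullback_fst _ _ (inferInstance : IsAffineHom sT)
  haveI : IsProper π := inferInstanceAs (IsProper (pullback.snd sX sT))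
  haveI : IsLocallyNoetherian (pullback sX sT) := LocallyOfFiniteType.isLocallyNoetherian π
  have hM' : PicF.IsInvertible ((Scheme.Modules.pullback p).obj M) := PicClLib.isInvertible_pullback _ hM
  let x : Fin q × Fin R → Γ(pullback sX sT, ⊤) := fun j => Coh.toGlobal π (MvPolynomial.X j : P)
  let taut : Fin q → Γ((Scheme.Modules.pullback p).obj M, ⊤) := fun a =>
    ∑ r, x (a, r) • (show Γ((Scheme.Modules.pullback p).obj M, ⊤) from pullElt p (U := ⊤) (σ r))
  let I : (pullback sX sT).IdealSheafData :=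
    ⨆ a, PicF2.zeroScheme ((Scheme.Modules.pullback p).obj M) (ofSect (taut a))
  let f : I.subscheme ⟶ T := I.subschemeι ≫ π
  haveI : IsProper f := inferInstanceAs (IsProper (I.subschemeι ≫ π))
  have hH : RelAmple.IsRelAmple f ((Scheme.Modules.pullback I.subschemeι).obj ((Scheme.Modules.pullback p).obj A)) := by
    refine AmpleX.isRelAmple_pullback_embedding π I.subschemeι I.subschemeι.isEmbedding ?_
    exact S2332.result sX sT A ((S4381.result sX A).2 hA)
  let D' := (Scheme.Modules.pullback I.subschemeι).obj ((Scheme.Modules.pullback p).obj D)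
  haveI : IsLocallyNoetherian I.subscheme := LocallyOfFiniteType.isLocallyNoetherian f
  have hD' : PicF.IsInvertible D' := PicClLib.isInvertible_pullback _ (PicClLib.isInvertible_pullback _ hD)
  obtain ⟨C, hC⟩ := exists_bound f hH (F := Coh.structureModule I.subscheme) QCoh.isCoh_structureModule' hD'
  refine ⟨C, fun v Z _ ι _ hι hker e he m hm i => ?_⟩
  let ev : P →+* k := MvPolynomial.eval v
  let u : Spec (CommRingCat.of k) ⟶ T := Spec.map (CommRingCat.ofHom ev)
  have hu : u ≫ sT = 𝟙 _ := by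
    rw [← Spec.map_comp, ← CommRingCat.ofHom_comp, show ev.comp MvPolynomial.C = RingHom.id k from
      RingHom.ext fun c => MvPolynomial.eval_C c]
    exact Spec.map_id _
  let s : X ⟶ pullback sX sT :=
    pullback.lift (𝟙 X) (sX ≫ u) (by rw [Category.id_comp, Category.assoc, hu, Category.comp_id])
  have hs₁ : s ≫ p = 𝟙 X := pullback.lift_fst _ _ _
  have hs₂ : s ≫ π = sX ≫ u := pullback.lift_snd _ _ _
  have hx : ∀ j, s.appTop (x j) = Coh.toGlobal sX (v j) := fun j => by
    have h1 : s.appTop (Coh.toGlobal π (MvPolynomial.X j : P)) = Coh.toGlobal (s ≫ π) (MvPolynomial.X j : P) := rfl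
    show s.appTop (Coh.toGlobal π (MvPolynomial.X j : P)) = _
    rw [h1, hs₂]
    show sX.appTop (u.appTop ((Scheme.ΓSpecIso (CommRingCat.of P)).inv (MvPolynomial.X j))) = _
    have h2 := ConcreteCategory.congr_hom (Scheme.ΓSpecIso_inv_naturality (CommRingCat.ofHom ev))
      (MvPolynomial.X j : P)
    refine (congrArg sX.appTop h2.symm).trans ?_
    show sX.appTop ((Scheme.ΓSpecIso (CommRingCat.of k)).inv (MvPolynomial.eval v (MvPolynomial.X j))) = _
    rw [MvPolynomial.eval_X]
    rfl
  have hcomap : I.comap s = ⨆ a : Fin q, PicF2.zeroScheme M (ofSect (combo k σ fun r => v (a, r))) := by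
    rw [(Scheme.IdealSheafData.map_gc (f := s)).l_iSup]
    refine iSup_congr fun a => ?_
    have hy : ∀ y : X, ∃ (U : X.affineOpens), y ∈ U.1 ∧ ∃ e : Γ(M, U.1), IsFrame e := fun y => by
      obtain ⟨W, hyW, e, he⟩ := exists_frame hM y
      obtain ⟨_, ⟨U, hU, rfl⟩, hyU, hUW⟩ := X.isBasis_affineOpens.exists_subset_of_mem_open hyW W.isOpen
      exact ⟨⟨U, hU⟩, hyU, _, he.res hUW⟩
    choose U hyU e he using hy
    refine Scheme.IdealSheafData.ext_of_iSup_eq_top U
      (eq_top_iff.2 fun y _ => Opens.mem_iSup.2 ⟨y, hyU y⟩) fun y => ?_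
    choose c hc using fun r => (he y).exists_coord le_rfl (res M (le_top : (U y).1 ≤ ⊤) (σ r))
    simp only [res_self] at hc
    let V : (pullback sX sT).affineOpens := ⟨p ⁻¹ᵁ (U y).1, (U y).2.preimage p⟩
    have hle : (U y).1 ≤ s ⁻¹ᵁ V.1 := fun z hz => by
      show (s ≫ p) z ∈ (U y).1
      rw [hs₁]; exact hz
    have h1 : res _ (le_top : V.1 ≤ ⊤) (taut a) =
        (∑ r, resR (le_top : V.1 ≤ ⊤) (x (a, r)) * p.app (U y).1 (c r)) • pullElt p (e y) := by
      rw [Finset.sum_smul]
      refine (map_sum (res ((Scheme.Modules.pullback p).obj M) (le_top : V.1 ≤ (⊤ : (pullback sX sT).Opens))) _ _).trans (Finset.sum_congr rfl fun r _ => ?_)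
      rw [res_smul, mul_smul]
      congr 1
      refine (res_pullElt p (le_top : (U y).1 ≤ ⊤) (σ r)).trans ?_
      rw [hc r, pullElt_smul]
    have h2 : res M (le_top : (U y).1 ≤ ⊤) (combo k σ fun r => v (a, r)) =
        (∑ r, resR (le_top : (U y).1 ≤ ⊤) (Coh.toGlobal sX (v (a, r))) * c r) • e y := by
      rw [Finset.sum_smul]
      refine (map_sum (res M (le_top : (U y).1 ≤ ⊤)) _ _).trans (Finset.sum_congr rfl fun r _ => ?_)
      rw [res_smul, hc r, mul_smul]
    rw [HTopCov.ideal_comap_appLE s _ V (U y) hle, PicCurve.ideal_zero hM' _ V (isFrame_pullElt p (he y)) h1,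
      PicCurve.ideal_zero hM _ (U y) (he y) h2, Ideal.map_span, Set.image_singleton, map_sum]
    refine congrArg (fun t => Ideal.span {t}) (Finset.sum_congr rfl fun r _ => ?_)
    rw [map_mul]
    congr 1
    · refine (ConcreteCategory.congr_hom (Scheme.Hom.map_appLE s hle (homOfLE (le_top : V.1 ≤ ⊤)).op) (x (a, r))).trans ?_
      rw [← hx (a, r), Scheme.Hom.appTop, Scheme.Hom.app_eq_appLE]
      exact (ConcreteCategory.congr_hom (Scheme.Hom.appLE_map s _ (homOfLE (le_top : (U y).1 ≤ ⊤)).op) (x (a, r))).symm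
    · rw [Scheme.Hom.app_eq_appLE]
      refine (ConcreteCategory.congr_hom (Scheme.Hom.appLE_comp_appLE s p _ _ _ le_rfl hle) (c r)).trans ?_
      simp only [hs₁]
      rw [Scheme.Hom.appLE, Scheme.Hom.id_app, Category.id_comp]
      exact ConcreteCategory.congr_hom (X.presheaf.map_id _) (c r)
  have hIker : I.subschemeι.ker.comap s = ι.ker := by
    rw [Scheme.IdealSheafData.ker_subschemeι, hcomap, hker]
  have hle : I.subschemeι.ker ≤ (ι ≫ s).ker := by
    rw [Scheme.Hom.ker_comp, Scheme.IdealSheafData.le_map_iff_comap_le, hIker]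
  let g : Z ⟶ I.subscheme := IsClosedImmersion.lift I.subschemeι (ι ≫ s) hle
  have hg : ι ≫ s = g ≫ I.subschemeι := (IsClosedImmersion.lift_fac I.subschemeι (ι ≫ s) hle).symm
  have sq₁ : IsPullback ι g s I.subschemeι := isPullback_of_isClosedImmersion ι I.subschemeι g s hg hIker
  have sq₀ : IsPullback s sX π u := by
    refine IsPullback.of_right ?_ hs₂ (IsPullback.of_hasPullback sX sT)
    rw [hu]
    haveI : IsIso (s ≫ pullback.fst sX sT) := by rw [show s ≫ pullback.fst sX sT = 𝟙 X from hs₁]; infer_instance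
    exact IsPullback.of_horiz_isIso ⟨by rw [show s ≫ pullback.fst sX sT = 𝟙 X from hs₁, Category.id_comp, Category.comp_id]⟩
  have sq : IsPullback g (Z ↘ Spec (CommRingCat.of k)) f u := by
    rw [← hι]
    exact sq₁.flip.paste_vert sq₀
  haveI : IsProper (Z ↘ Spec (CommRingCat.of k)) := by rw [← hι]; infer_instance
  let t := u (IsLocalRing.closedPoint k)
  haveI : IsPreimmersion u := by
    haveI : IsPreimmersion (u ≫ sT) := by rw [hu]; infer_instance
    haveI : IsClosedImmersion u := by
      refine IsClosedImmersion.spec_of_surjective _ fun c => ⟨MvPolynomial.C c, MvPolynomial.eval_C c⟩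
    infer_instance
  haveI : IsPreimmersion g := MorphismProperty.of_isPullback sq.flip ‹IsPreimmersion u›
  have hdim : topologicalKrullDim ↥(f.fiber t) = e := by
    rw [← he, ← FlatMisc.DimNear.fibre_dim_congr f (Z ↘ Spec (CommRingCat.of k)) g (IsLocalRing.closedPoint k) t
      g.isEmbedding ?_]
    · exact TFQuot.dim_fiber_field _ _
    · ext z
      constructor
      · rintro ⟨a, ha, rfl⟩
        show (g ≫ f) a = t
        rw [sq.w, Scheme.Hom.comp_apply, show (Z ↘ Spec (CommRingCat.of k)) a = IsLocalRing.closedPoint k from ha]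
      · intro hz
        obtain ⟨w, hw₁, hw₂⟩ := Scheme.Pullback.exists_preimage_pullback (f := f) (g := u) z (IsLocalRing.closedPoint k) hz
        refine ⟨sq.isoPullback.inv w, Subsingleton.elim _ _, ?_⟩
        rw [← Scheme.Hom.comp_apply, sq.isoPullback_inv_fst, hw₁]
  refine le_of_eq_of_le ?_ (hC t e hdim m hm i)
  rw [AVEuler.fiberRank_eq_finrank sq sT hu (AmpleVan.isCoh_tensor QCoh.isCoh_structureModule'
    (AmpleVan.isCoh_invertible (InvX.isInvertible_tensorPow hD' m))).1 i]
  refine (HilbPoly.finrank_HH_iso k ?_ i).symm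
  refine (H23.PicMul.cl_eq_iff.1 ?_).some
  obtain ⟨a⟩ := H23.PicMul.pull g (Coh.structureModule I.subscheme) (CohB1.tensorPow D' m)
  obtain ⟨b⟩ := HilbSnap.pullback_tensorPow g D' m
  obtain ⟨b'⟩ := HilbSnap.pullback_tensorPow ι D m
  obtain ⟨o⟩ := PicClLib.nonempty_pullback_structureModule g
  rw [H23.PicMul.cl_eq_iff.2 ⟨a ≪≫ PicGrp.tensorModIso (Iso.refl _) b⟩, H23.PicMul.cl_eq_iff.2 ⟨b'⟩,
    H23.PicMul.cl_tensor, H23.PicMul.cl_tensorPow, H23.PicMul.cl_tensorPow, H23.PicMul.cl_eq_iff.2 ⟨o⟩,
    ← H23.PicMul.one_def, one_mul]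
  congr 1
  refine H23.PicMul.cl_eq_iff.2 ⟨(Scheme.Modules.pullbackComp g I.subschemeι).app _ ≪≫
    (Scheme.Modules.pullbackCongr hg.symm).app _ ≪≫ ((Scheme.Modules.pullbackComp ι s).app _).symm ≪≫
    (Scheme.Modules.pullback ι).mapIso ((Scheme.Modules.pullbackComp s p).app D ≪≫
      (Scheme.Modules.pullbackCongr hs₁).app D ≪≫ (Scheme.Modules.pullbackId X).app D)⟩

end Groth.Agent.FibreGrowth

end
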