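import Groth.Agent.HilbSnap.UniformVan
import Groth.Agent.HilbSnap.FiniteRange
import Groth.Agent.AsympCoh.Word
import Groth.Agent.QCoh.AnnIdeal
import Groth.Agent.FibFlatMod.StagePoint
import Groth.Agent.QuotRep.FibreIso

/-!
# Short exact sequences and cohomology on the fibres
-/

set_option autoImplicit false
set_option linter.style.haveILetI false
set_option linter.unusedSectionVars false
set_option backward.isDefEq.respectTransparency false
set_option backward.isDefEq.respectTransparency.types false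
set_option maxHeartbeats 1000000
set_option synthInstance.maxHeartbeats 400000

universe u

open CategoryTheory CategoryTheory.Limits AlgebraicGeometry TopologicalSpace Opposite

attribute [-instance] CategoryTheory.catToReflQuiver

noncomputable section

namespace Groth.Agent.FibreGrowth

open Groth.Agent Groth.Agent.HilbPoly

variable {X T : Scheme.{u}} (π : X ⟶ T)

/-- A monomorphism with cokernel flat along the image stays one after base change. -/
theorem mono_pullback {P' T' : Scheme.{u}} {v : P' ⟶ X} {b' : P' ⟶ T'} {g : T' ⟶ T} (hc : IsPullback v b' π g)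
    {A B : X.Modules} (hA : Coh.IsQCoh A) (hB : Coh.IsQCoh B) (χ : A ⟶ B) [Mono χ]
    (hfl : ∀ x, FlatMod.IsFlatOverAt π (cokernel χ) (v x)) : Mono ((Scheme.Modules.pullback v).map χ) := by
  refine LimMod.mono_of_stalks _ fun x => ?_
  let ι₁ := (Scheme.Modules.pullback (𝟙 X)).map χ
  have hnat := (Scheme.Modules.pullbackId X).hom.naturality χ
  haveI : Mono ι₁ := by
    have : ι₁ = (Scheme.Modules.pullbackId X).hom.app A ≫ χ ≫
        (Scheme.Modules.pullbackId X).inv.app B := by
      rw [← Category.assoc]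
      exact ((Iso.comp_inv_eq ((Scheme.Modules.pullbackId X).app B)).2 hnat.symm).symm
    rw [this]
    infer_instance
  let e : cokernel ι₁ ≅ cokernel χ :=
    cokernel.mapIso ι₁ χ ((Scheme.Modules.pullbackId X).app _) ((Scheme.Modules.pullbackId X).app B) hnat
  have h0 : Function.Injective (FibFlatMod.stalkLin ι₁ (v x)) ∧
      FlatMod.IsFlatOverAt π (cokernel ι₁) (v x) := by
    refine ⟨?_, GrFlat5.isFlatOverAt_of_iso _ e.symm _ (hfl _)⟩
    haveI : Mono ((DerSch.stalkFunctor X (v x)).map ι₁) := inferInstance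
    exact (ModuleCat.mono_iff_injective _).1 this
  exact (ModuleCat.mono_iff_injective _).2
    (FibFlatMod.inj_coker_flat_baseChange hc (𝟙 X) v (Category.comp_id v) hA hB χ x h0).1

/-- The module is flat over the base at all points above `U`. -/
def FlatAbove (U : T.Opens) (F : X.Modules) : Prop :=
  ∀ x : X, π x ∈ U → FlatMod.IsFlatOverAt π F x

variable {π}

theorem FlatAbove.of_iso {U : T.Opens} {F G : X.Modules} (h : FlatAbove π U F) (e : F ≅ G) :
    FlatAbove π U G := fun x hx => GrFlat5.isFlatOverAt_of_iso _ e x (h x hx)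

theorem FlatAbove.mono {U V : T.Opens} {F : X.Modules} (h : FlatAbove π U F) (hVU : V ≤ U) :
    FlatAbove π V F := fun x hx => h x (hVU hx)

theorem FlatAbove.tensor {U : T.Opens} {F N : X.Modules} (h : FlatAbove π U F) (hN : PicF.IsInvertible N) :
    FlatAbove π U (CohB1.tensorMod F N) := fun x hx => by
  obtain ⟨W, hW, e, he⟩ := InvX.exists_frame hN x
  obtain ⟨E⟩ := AmpleNeg.exists_stalkEquiv (M := F) hW he
  letI := FlatMod.moduleStalkOver π F x
  letI := FlatMod.moduleStalkOver π (CohB1.tensorMod F N) x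
  haveI : Module.Flat (T.presheaf.stalk (π.base x)) (F.presheaf.stalk x) := h x hx
  exact Module.Flat.of_linearEquiv (R := T.presheaf.stalk (π.base x))
    ({ E.toAddEquiv with map_smul' := fun r m => E.map_smul (π.stalkMap x r) m } :
      F.presheaf.stalk x ≃ₗ[T.presheaf.stalk (π.base x)] (CohB1.tensorMod F N).presheaf.stalk x).symm

variable (π)

/-- The dimension of fibre cohomology in the preceding degree. -/
def rankPred (F : X.Modules) : ℕ → T → ℕ
  | 0, _ => 0
  | i + 1, t => CohIII.fiberRank π F i t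

theorem isCoh_pullback_fiber [IsLocallyNoetherian X] [IsProper π] {F : X.Modules} (hF : Coh.IsCoh F) (t : T) :
    Coh.IsCoh ((Scheme.Modules.pullback (π.fiberι t)).obj F) := by
  letI : (π.fiber t).Over (Spec (CommRingCat.of (T.residueField t : Type u))) := ⟨π.fiberToSpecResidueField t⟩
  haveI : IsProper ((π.fiber t) ↘ Spec (CommRingCat.of (T.residueField t : Type u))) :=
    inferInstanceAs (IsProper (pullback.snd π (T.fromSpecResidueField t)))
  haveI : IsLocallyNoetherian (π.fiber t) :=
    LocallyOfFiniteType.isLocallyNoetherian ((π.fiber t) ↘ Spec (CommRingCat.of (T.residueField t : Type u)))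
  exact ZClosLib.isCoh_pullback _ hF

/-- The cohomology inequalities on a fibre of a short exact sequence with flat third term. -/
theorem rank_ses [IsLocallyNoetherian X] [IsProper π] {S : ShortComplex X.Modules} (hS : S.ShortExact)
    (h₁ : Coh.IsCoh S.X₁) (h₂ : Coh.IsCoh S.X₂) (h₃ : Coh.IsCoh S.X₃) {U : T.Opens} (hfl : FlatAbove π U S.X₃)
    {t : T} (ht : t ∈ U) (i : ℕ) :
    CohIII.fiberRank π S.X₁ i t ≤ CohIII.fiberRank π S.X₂ i t + rankPred π S.X₃ i t ∧
      CohIII.fiberRank π S.X₂ i t ≤ CohIII.fiberRank π S.X₁ i t + CohIII.fiberRank π S.X₃ i t := by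
  letI : (π.fiber t).Over (Spec (CommRingCat.of (T.residueField t : Type u))) := ⟨π.fiberToSpecResidueField t⟩
  haveI : IsProper ((π.fiber t) ↘ Spec (CommRingCat.of (T.residueField t : Type u))) :=
    inferInstanceAs (IsProper (pullback.snd π (T.fromSpecResidueField t)))
  haveI : IsLocallyNoetherian (π.fiber t) :=
    LocallyOfFiniteType.isLocallyNoetherian ((π.fiber t) ↘ Spec (CommRingCat.of (T.residueField t : Type u)))
  haveI : IsNoetherian (π.fiber t) :=
    CurveCohLib.isNoetherian_of_proper (k := (T.residueField t : Type u))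
  haveI := hS.mono_f
  haveI := hS.epi_g
  let e : cokernel S.f ≅ S.X₃ :=
    IsColimit.coconePointUniqueUpToIso (cokernelIsCokernel S.f) hS.gIsCokernel
  haveI : Mono ((Scheme.Modules.pullback (π.fiberι t)).map S.f) :=
    mono_pullback π (IsPullback.of_hasPullback π (T.fromSpecResidueField t)) h₁.1 h₂.1 S.f fun x =>
      GrFlat5.isFlatOverAt_of_iso _ e.symm _ (hfl _ (by
        have hmem : π.fiberι t x ∈ Set.range (π.fiberι t) := ⟨x, rfl⟩
        rw [Scheme.Hom.range_fiberι] at hmem
        have heq : π (π.fiberι t x) = t := hmem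
        show π (π.fiberι t x) ∈ U
        rw [heq]; exact ht))
  haveI := (Scheme.Modules.pullbackPushforwardAdjunction (π.fiberι t)).isLeftAdjoint
  let F := Scheme.Modules.pullback (π.fiberι t)
  haveI : Epi (S.map F).g := F.map_epi S.g
  haveI : Mono (S.map F).f := ‹Mono ((Scheme.Modules.pullback (π.fiberι t)).map S.f)›
  have hS' : (S.map F).ShortExact :=
    .mk' (ShortComplex.exact_of_g_is_cokernel _ (CokernelCofork.mapIsColimit _ hS.gIsCokernel F)) ‹_› ‹_›
  have c₁ := isCoh_pullback_fiber π h₁ t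
  have c₂ := isCoh_pullback_fiber π h₂ t
  have c₃ := isCoh_pullback_fiber π h₃ t
  refine ⟨?_, hdimk_mid (T.residueField t : Type u) hS' c₁ c₂ c₃ i⟩
  have h := AsympCoh.hdimk_left' (T.residueField t : Type u) hS' c₁ c₂ c₃ i
  cases i with
  | zero => exact h
  | succ i => exact h

/-- No cohomology on fibres off the support. -/
theorem rank_eq_zero_of_forall_not_mem [IsLocallyNoetherian X] [IsProper π] {F : X.Modules} (hF : Coh.IsCoh F)
    {t : T} (h : ∀ x ∈ CohB1.support F, π x ≠ t) (i : ℕ) : CohIII.fiberRank π F i t = 0 := by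
  letI : (π.fiber t).Over (Spec (CommRingCat.of (T.residueField t : Type u))) := ⟨π.fiberToSpecResidueField t⟩
  haveI : IsProper ((π.fiber t) ↘ Spec (CommRingCat.of (T.residueField t : Type u))) :=
    inferInstanceAs (IsProper (pullback.snd π (T.fromSpecResidueField t)))
  refine hdimk_eq_zero_of_dimLT (T.residueField t : Type u) (isCoh_pullback_fiber π hF t) (d := 0) ?_
    (Nat.zero_le i)
  have he : CohB1.support ((Scheme.Modules.pullback (π.fiberι t)).obj F) = ∅ := by
    rw [QCoh.support_pullback (π.fiberι t) hF.1 hF.2]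
    refine Set.eq_empty_iff_forall_notMem.2 fun y hy => h _ hy ?_
    have hmem : π.fiberι t y ∈ Set.range (π.fiberι t) := ⟨y, rfl⟩
    rw [Scheme.Hom.range_fiberι] at hmem
    exact hmem
  show topologicalKrullDim ↥(CohB1.support _) < _
  rw [he]
  haveI : IsEmpty ↥(∅ : Set (π.fiber t)) := Set.isEmpty_coe_sort.2 rfl
  haveI : IsEmpty (IrreducibleCloseds ↥(∅ : Set (π.fiber t))) := ⟨fun Z => isEmptyElim Z.2.1.some⟩
  rw [topologicalKrullDim, Order.krullDim_eq_bot]
  exact WithBot.bot_lt_coe _

/-- Cohomology of fibres vanishes in degrees beyond the fibre dimension. -/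
theorem rank_eq_zero_of_dim_lt [IsLocallyNoetherian X] [IsProper π] {F : X.Modules} (hF : Coh.IsCoh F)
    {t : T} {d : ℕ} (hd : topologicalKrullDim ↥(π.fiber t) ≤ (d : WithBot ℕ∞)) {i : ℕ} (hi : d + 1 ≤ i) :
    CohIII.fiberRank π F i t = 0 := by
  letI : (π.fiber t).Over (Spec (CommRingCat.of (T.residueField t : Type u))) := ⟨π.fiberToSpecResidueField t⟩
  haveI : IsProper ((π.fiber t) ↘ Spec (CommRingCat.of (T.residueField t : Type u))) :=
    inferInstanceAs (IsProper (pullback.snd π (T.fromSpecResidueField t)))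
  exact hdimk_eq_zero_of_dimLT (T.residueField t : Type u) (isCoh_pullback_fiber π hF t)
    (lt_succ_of_le (((topologicalKrullDim_subspace_le _ _)).trans hd)) hi

/-- For a fixed module flat above `U` the fibre ranks are bounded over `U`. -/
theorem exists_rank_bound [IsNoetherian T] [IsLocallyNoetherian X] [IsProper π] {F : X.Modules} (hF : Coh.IsCoh F)
    {U : T.Opens} (hfl : FlatAbove π U F) :
    ∃ C : ℕ, ∀ t ∈ U, ∀ i, CohIII.fiberRank π F i t ≤ C := by
  classical
  obtain ⟨d, hd⟩ := HilbSnap.exists_dim_le π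
  haveI : IsLocallyNoetherian (U : Scheme.{u}) := LocallyOfFiniteType.isLocallyNoetherian U.ι
  haveI : CompactSpace (U : Scheme.{u}) := isCompact_iff_compactSpace.1 (NoetherianSpace.isCompact (U : Set T))
  haveI : IsLocallyNoetherian (π ⁻¹ᵁ U : Scheme.{u}) := LocallyOfFiniteType.isLocallyNoetherian (π ⁻¹ᵁ U).ι
  let G := (Scheme.Modules.pullback (π ⁻¹ᵁ U).ι).obj F
  have hG : Coh.IsCoh G := ZClosLib.isCoh_pullback _ hF
  have hGfl : FlatMod.IsFlatOver (π ∣_ U) G := fun x =>
    (FibFlatMod.flatAt_openImmersion (f := π) (f' := π ∣_ U) (jX := (π ⁻¹ᵁ U).ι) (jY := U.ι)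
      (morphismRestrict_ι π U) F x).2 (hfl _ x.2)
  have hb : ∀ i, ∃ C, ∀ t ∈ U, CohIII.fiberRank π F i t ≤ C := fun i => by
    obtain ⟨σ, hσ⟩ := isCompact_univ.elim_finite_subcover
      (fun n : ℕ => {s : (U : Scheme.{u}) | CohIII.fiberRank (π ∣_ U) G i s < n})
      (fun n => PBC.isOpen_fiberRank_lt_noeth (π ∣_ U) hG hGfl i n)
      (fun s _ => Set.mem_iUnion.2 ⟨_, show _ < CohIII.fiberRank (π ∣_ U) G i s + 1 from Nat.lt_succ_self _⟩)
    refine ⟨σ.sup id, fun t ht => ?_⟩
    obtain ⟨n, hn, hs⟩ := Set.mem_iUnion₂.1 (hσ (Set.mem_univ (⟨t, ht⟩ : (U : Scheme.{u}))))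
    rw [← PBC.fiberRank_restrict π hF.1 U i ⟨t, ht⟩]
    exact (le_of_lt hs).trans (Finset.le_sup (f := id) hn)
  choose C hC using hb
  refine ⟨∑ i ∈ Finset.range (d + 1), C i, fun t ht i => ?_⟩
  by_cases hi : i < d + 1
  · exact (hC i t ht).trans (Finset.single_le_sum (fun j _ => Nat.zero_le (C j)) (Finset.mem_range.2 hi))
  · rw [rank_eq_zero_of_dim_lt π hF (hd t) (not_lt.1 hi)]
    exact Nat.zero_le _

end Groth.Agent.FibreGrowth

end
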