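import Groth.Agent.FibreGrowth.Fibre
import Groth.Agent.AsympCoh.GenCok
import Groth.Agent.AmpleX.Generated
import Groth.Agent.S1664
import Groth.Agent.S4799

/-!
# Growth of the fibre ranks of the twists, uniform over an open of an integral affine base
-/

set_option autoImplicit false
set_option linter.style.haveILetI false
set_option linter.unusedSectionVars false
set_option backward.isDefEq.respectTransparency false
set_option backward.isDefEq.respectTransparency.types false
set_option maxHeartbeats 1000000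
set_option synthInstance.maxHeartbeats 400000

universe u

open CategoryTheory CategoryTheory.Limits AlgebraicGeometry TopologicalSpace Opposite
open Groth.Agent.H23.PicMul

attribute [-instance] CategoryTheory.catToReflQuiver

noncomputable section

namespace Groth.Agent.FibreGrowth

open Groth.Agent Groth.Agent.HilbPoly

/-- `(m + 1) ^ (e - 1)`, read as zero for `e = 0`. -/
def growth (e m : ℕ) : ℕ := if e = 0 then 0 else (m + 1) ^ (e - 1)

theorem growth_mono (e : ℕ) {m n : ℕ} (h : m ≤ n) : growth e m ≤ growth e n := by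
  simp only [growth]
  split_ifs
  · exact le_rfl
  · exact Nat.pow_le_pow_left (Nat.succ_le_succ h) _

theorem growth_succ_pos (e m : ℕ) : 1 ≤ growth (e + 1) m := by
  simp only [growth, Nat.succ_ne_zero, if_false]
  exact Nat.one_le_pow _ _ (Nat.succ_pos m)

theorem mul_growth_le (e m : ℕ) : m * growth e m ≤ growth (e + 1) m := by
  rcases e with _ | e
  · simp [growth]
  · simp only [growth, Nat.succ_ne_zero, if_false]
    show m * (m + 1) ^ e ≤ (m + 1) ^ (e + 1)
    rw [pow_succ']
    exact Nat.mul_le_mul_right _ (Nat.le_succ m)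

theorem le_of_step {e : ℕ} {a : ℕ → ℕ} {b K : ℕ} (h0 : a 0 ≤ b)
    (hs : ∀ m, a (m + 1) ≤ a m + K * growth e (m + 1)) (m : ℕ) : a m ≤ (b + K) * growth (e + 1) m := by
  have h : ∀ m, a m ≤ b + K * (m * growth e m) := by
    intro m
    induction m with
    | zero => simpa using h0
    | succ m ih =>
      have h1 : K * (m * growth e m) ≤ K * (m * growth e (m + 1)) :=
        Nat.mul_le_mul_left _ (Nat.mul_le_mul_left _ (growth_mono e (Nat.le_succ m)))
      have h2 := hs m
      rw [Nat.succ_mul, Nat.mul_add]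
      omega
  refine (h m).trans ?_
  rw [Nat.add_mul]
  exact Nat.add_le_add (Nat.le_mul_of_pos_right _ (growth_succ_pos e m))
    (Nat.mul_le_mul_left _ (mul_growth_le e m))

variable {X T : Scheme.{u}} [IsIntegral T] [IsNoetherian T] (π : X ⟶ T) [IsProper π] [IsNoetherian X]
  (L : X.Modules)

/-- The dimension of the support on the generic fibre. -/
abbrev genDim (F : X.Modules) : WithBot ℕ∞ :=
  topologicalKrullDim ↥((π.fiberι (genericPoint T)) ⁻¹' CohB1.support F)

/-- The twists grow at most like `growth e` on the fibres over some dense open. -/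
def Bound (F : X.Modules) (e : ℕ) : Prop :=
  ∃ U : T.Opens, genericPoint T ∈ U ∧ ∃ C : ℕ, ∀ t ∈ U, ∀ m i,
    CohIII.fiberRank π (CohB1.tensorMod F (CohB1.tensorPow L m)) i t ≤ C * growth e m

omit [AlgebraicGeometry.IsNoetherian T] in
theorem generic_mem {U : T.Opens} (h : (U : Set T).Nonempty) : genericPoint T ∈ U :=
  ((genericPoint_spec T).mem_open_set_iff U.isOpen).2 (by simpa using h)

theorem exists_flatAbove {F : X.Modules} (hF : Coh.IsCoh F) :
    ∃ U : T.Opens, genericPoint T ∈ U ∧ FlatAbove π U F := by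
  haveI : Coh.IsQCoh F := hF.1
  obtain ⟨U, hU, h⟩ := S4799.result π F (QCoh.isCoh_iff_isFP.1 hF)
  exact ⟨U, generic_mem hU, h⟩

variable {L}

theorem bound_of_genDim_lt_zero (hL : PicF.IsInvertible L) {F : X.Modules} (hF : Coh.IsCoh F)
    (h : genDim π F < ((0 : ℕ) : WithBot ℕ∞)) (e : ℕ) : Bound π L F e := by
  have hcl : IsClosed (π '' CohB1.support F) :=
    π.isClosedMap _ (QCoh.isClosed_support_of_isFT hF.1 hF.2)
  refine ⟨⟨(π '' CohB1.support F)ᶜ, hcl.isOpen_compl⟩, ?_, 0, fun t ht m i => le_of_eq ?_⟩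
  · rintro ⟨x, hx, hxη⟩
    obtain ⟨y, hy⟩ : x ∈ Set.range (π.fiberι (genericPoint T)) := by
      rw [Scheme.Hom.range_fiberι]; exact hxη
    haveI : Nonempty ↥((π.fiberι (genericPoint T)) ⁻¹' CohB1.support F) :=
      ⟨⟨y, show π.fiberι _ y ∈ _ by rw [hy]; exact hx⟩⟩
    haveI : Nonempty (IrreducibleCloseds ↥((π.fiberι (genericPoint T)) ⁻¹' CohB1.support F)) :=
      ⟨⟨closure {Classical.arbitrary _}, isIrreducible_singleton.closure, isClosed_closure⟩⟩
    exact not_le_of_gt h (Order.krullDim_nonneg)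
  · rw [zero_mul]
    exact rank_eq_zero_of_forall_not_mem π
      (AmpleVan.isCoh_tensor hF (AmpleVan.isCoh_invertible (InvX.isInvertible_tensorPow hL m)))
      (fun x hx hxt => ht ⟨x, support_tensor_subset F _ hx, hxt⟩) i

theorem genDim_lt_of_subset {F G : X.Modules} {r : ℕ} (h : CohB1.support G ⊆ CohB1.support F)
    (hF : genDim π F < (r : WithBot ℕ∞)) : genDim π G < (r : WithBot ℕ∞) :=
  (H23.TopDim.dim_le_dim_of_subset (Set.preimage_mono h)).trans_lt hF

/-- Sections generating at a point of an ample power and of its twist by `L`. -/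
theorem exists_sections [X.IsSeparated] {H : X.Modules} (hH : CohB1.IsAmple H) (hL : PicF.IsInvertible L) (ξ : X) :
    ∃ (N : X.Modules) (_ : PicF.IsInvertible N) (t : Coh.structureModule X ⟶ N)
      (N' : X.Modules) (_ : PicF.IsInvertible N') (s : Coh.structureModule X ⟶ N'),
      PicF.cl N' = PicF.cl L * PicF.cl N ∧ ξ ∈ CohB1.genLocus N t ∧ ξ ∈ CohB1.genLocus N' s := by
  obtain ⟨a, ha, hA⟩ := AmpleX.eventually_ample_tensor hH hL
  obtain ⟨b, hb, hB⟩ := AmpleX.eventually_ample_tensor hH CurveDeg.isInvertible_structureModule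
  set n := max a b
  have hN := InvX.isInvertible_tensorMod (InvX.isInvertible_tensorPow hH.1 n) CurveDeg.isInvertible_structureModule
  have hN' := InvX.isInvertible_tensorMod (InvX.isInvertible_tensorPow hH.1 n) hL
  obtain ⟨t, ht⟩ := S1664.GenSec.exists_mem_genLocus hN (hB n (le_max_right _ _)).2 ξ
  obtain ⟨s, hs⟩ := S1664.GenSec.exists_mem_genLocus hN' (hA n (le_max_left _ _)).2 ξ
  refine ⟨_, hN, t, _, hN', s, ?_, ht, hs⟩
  rw [cl_tensor, cl_tensor, ← H23.PicMul.one_def, mul_one, mul_comm]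

/-- The step for a push forward of an ideal from an integral closed subscheme. -/
theorem bound_piece [X.IsSeparated] {H : X.Modules} (hH : CohB1.IsAmple H) (hL : PicF.IsInvertible L) {e : ℕ}
    (IH : ∀ F : X.Modules, Coh.IsCoh F → genDim π F < (e : WithBot ℕ∞) → Bound π L F e)
    {Z : Scheme.{u}} (j : Z ⟶ X) [IsClosedImmersion j] [IsIntegral Z] {I : Z.Modules}
    (ι : I ⟶ Coh.structureModule Z) [Mono ι] (hI : Coh.IsQCoh I) (hI0 : ¬ IsZero I)
    (hA : Coh.IsCoh ((Coh.push j).obj I))
    (hd : genDim π ((Coh.push j).obj I) < ((e + 1 : ℕ) : WithBot ℕ∞)) :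
    Bound π L ((Coh.push j).obj I) (e + 1) := by
  set A := (Coh.push j).obj I
  set ξ := j (genericPoint Z)
  have hsupp : CohB1.support A = closure {ξ} := QCoh.support_push_ideal j ι hI hI0
  by_cases hne : ((π.fiberι (genericPoint T)) ⁻¹' CohB1.support A).Nonempty
  swap
  · refine bound_of_genDim_lt_zero π hL hA ?_ (e + 1)
    haveI : IsEmpty ↥((π.fiberι (genericPoint T)) ⁻¹' CohB1.support A) := by
      rw [Set.isEmpty_coe_sort]; exact Set.not_nonempty_iff_eq_empty.1 hne
    haveI : IsEmpty (IrreducibleCloseds ↥((π.fiberι (genericPoint T)) ⁻¹' CohB1.support A)) :=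
      ⟨fun Z => isEmptyElim Z.2.1.some⟩
    rw [genDim, topologicalKrullDim, Order.krullDim_eq_bot]
    exact WithBot.bot_lt_coe _
  obtain ⟨y, hy⟩ := hne
  have hξη : π ξ = genericPoint T := by
    have h1 : ξ ⤳ π.fiberι _ y := by
      rw [specializes_iff_mem_closure, ← hsupp]; exact hy
    have h2 : π (π.fiberι (genericPoint T) y) = genericPoint T := by
      have hmem : π.fiberι (genericPoint T) y ∈ Set.range (π.fiberι (genericPoint T)) := ⟨y, rfl⟩
      rw [Scheme.Hom.range_fiberι] at hmem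
      exact hmem
    have h3 := h1.map π.continuous
    rw [h2] at h3
    exact (h3.antisymm ((genericPoint_spec T).specializes (Set.mem_univ _))).eq
  obtain ⟨ξ', hξ'⟩ : ξ ∈ Set.range (π.fiberι (genericPoint T)) := by
    rw [Scheme.Hom.range_fiberι]; exact hξη
  have hcl : closure ({ξ'} : Set (π.fiber (genericPoint T))) = (π.fiberι (genericPoint T)) ⁻¹' CohB1.support A := by
    rw [(π.fiberι (genericPoint T)).isEmbedding.isInducing.closure_eq_preimage_closure_image, Set.image_singleton,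
      hsupp]
    exact congrArg _ (congrArg closure (congrArg _ hξ'))
  have hn : topologicalKrullDim ↥(closure ({ξ'} : Set (π.fiber (genericPoint T)))) ≤ (e : WithBot ℕ∞) := by
    rw [hcl]; exact le_of_lt_succ hd
  obtain ⟨N, hN, t, N', hN', s, hcleq, ht, hs⟩ := exists_sections hH hL ξ
  have key : ∀ {P : X.Modules} (hP : PicF.IsInvertible P) (r : Coh.structureModule X ⟶ P),
      ξ ∈ CohB1.genLocus P r → Mono (mulHom r A) ∧ Coh.IsCoh (AsympCoh.cok r A) ∧
        genDim π (AsympCoh.cok r A) < (e : WithBot ℕ∞) := by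
    intro P hP r hr
    obtain ⟨W, hW, hξW⟩ : ∃ W : X.Opens, IsIso ((Scheme.Modules.restrictFunctor W.ι).map r) ∧ ξ ∈ W :=
      Opens.mem_sSup.1 hr
    haveI : IsIso ((Scheme.Modules.restrictFunctor W.ι).map r) := hW
    haveI := isIso_restrict_mulHom r A (U := W)
    have hT : Coh.IsCoh (CohB1.tensorMod A P) := AmpleVan.isCoh_tensor hA (AmpleVan.isCoh_invertible hP)
    have hC : Coh.IsCoh (AsympCoh.cok r A) := QCoh.isCoh_cokernel hA.1 hT _
    refine ⟨mono_mulHom_of_mono r ((Coh.push j).map ι) (Functor.map_mono _ ι) (mono_mulHom_push j r hξW), hC, ?_⟩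
    refine dim_lt_closure hn ?_ ?_ ?_
    · exact (QCoh.isClosed_support_of_isFT hC.1 hC.2).preimage (π.fiberι _).continuous
    · rw [hcl]
      exact Set.preimage_mono ((QCoh.support_of_epi hT.1 hC.1 (cokernel.π _)).trans (support_tensor_subset A _))
    · show π.fiberι _ ξ' ∉ CohB1.support _
      rw [hξ']
      exact notMem_support_of_isZero_restrict (isZero_restrict_cokernel W _) hξW
  obtain ⟨mt, ct, dt⟩ := key hN t ht
  obtain ⟨ms, cs, ds⟩ := key hN' s hs
  obtain ⟨Ut, hηt, Ct, hCt⟩ := IH _ ct dt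
  obtain ⟨Us, hηs, Cs, hCs⟩ := IH _ cs ds
  obtain ⟨Vt, hVt, hflt⟩ := exists_flatAbove π ct
  obtain ⟨Vs, hVs, hfls⟩ := exists_flatAbove π cs
  obtain ⟨V, hV, hfl⟩ := exists_flatAbove π hA
  obtain ⟨b, hb⟩ := exists_rank_bound π (U := V)
    (AmpleVan.isCoh_tensor hA (AmpleVan.isCoh_invertible (InvX.isInvertible_tensorPow hL 0)))
    (hfl.tensor (InvX.isInvertible_tensorPow hL 0))
  refine ⟨(Ut ⊓ Us) ⊓ (Vt ⊓ Vs) ⊓ V, ⟨⟨⟨hηt, hηs⟩, hVt, hVs⟩, hV⟩, b + (Ct + Cs), ?_⟩
  rintro z ⟨⟨⟨hzt, hzs⟩, hzVt, hzVs⟩, hzV⟩ m i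
  revert i
  suffices H : ∀ i, CohIII.fiberRank π (CohB1.tensorMod A (CohB1.tensorPow L m)) i z ≤
      (b + (Ct + Cs)) * growth (e + 1) m from H
  intro i
  refine le_of_step (a := fun m => CohIII.fiberRank π (CohB1.tensorMod A (CohB1.tensorPow L m)) i z)
    (hb z hzV i) (fun n => ?_) m
  haveI := AmpleVan.isEquivalence_tw (InvX.isInvertible_tensorPow hL (n + 1))
  haveI := AmpleVan.isEquivalence_tw (InvX.isInvertible_tensorPow hL n)
  have hinv := fun m => AmpleVan.isCoh_invertible (InvX.isInvertible_tensorPow (L := L) hL m)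
  have S1 : (ShortComplex.mk (mulHom t A) (cokernel.π _) (cokernel.condition _)).ShortExact :=
    .mk' (ShortComplex.exact_of_g_is_cokernel _ (cokernelIsCokernel _)) mt inferInstance
  have S2 : (ShortComplex.mk (mulHom s A) (cokernel.π _) (cokernel.condition _)).ShortExact :=
    .mk' (ShortComplex.exact_of_g_is_cokernel _ (cokernelIsCokernel _)) ms inferInstance
  have hAN : Coh.IsCoh (CohB1.tensorMod A N) := AmpleVan.isCoh_tensor hA (AmpleVan.isCoh_invertible hN)
  have hAN' : Coh.IsCoh (CohB1.tensorMod A N') := AmpleVan.isCoh_tensor hA (AmpleVan.isCoh_invertible hN')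
  have u₁ := (rank_ses π (S1.map_of_exact (AmpleVan.tw (CohB1.tensorPow L (n + 1))))
    (AmpleVan.isCoh_tensor hA (hinv _)) (AmpleVan.isCoh_tensor hAN (hinv _)) (AmpleVan.isCoh_tensor ct (hinv _))
    (hflt.tensor (InvX.isInvertible_tensorPow hL (n + 1))) hzVt i).1
  have u₂ := (rank_ses π (S2.map_of_exact (AmpleVan.tw (CohB1.tensorPow L n)))
    (AmpleVan.isCoh_tensor hA (hinv _)) (AmpleVan.isCoh_tensor hAN' (hinv _)) (AmpleVan.isCoh_tensor cs (hinv _))
    (hfls.tensor (InvX.isInvertible_tensorPow hL n)) hzVs i).2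
  have e₁ : CohIII.fiberRank π (CohB1.tensorMod (CohB1.tensorMod A N) (CohB1.tensorPow L (n + 1))) i z =
      CohIII.fiberRank π (CohB1.tensorMod (CohB1.tensorMod A N') (CohB1.tensorPow L n)) i z := by
    refine PBC.fiberRank_congr π (cl_eq_iff.1 ?_).some i z
    rw [cl_tensor, cl_tensor, cl_tensor, cl_tensor, cl_tensorPow, cl_tensorPow, hcleq, pow_succ]
    ac_rfl
  have v₁ : rankPred π (CohB1.tensorMod (AsympCoh.cok t A) (CohB1.tensorPow L (n + 1))) i z ≤
      Ct * growth e (n + 1) := by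
    cases i with
    | zero => exact Nat.zero_le _
    | succ i => exact hCt z hzt (n + 1) i
  have v₂ := (hCs z hzs n i).trans (Nat.mul_le_mul_left Cs (growth_mono e (Nat.le_add_right n 1)))
  show CohIII.fiberRank π (CohB1.tensorMod A (CohB1.tensorPow L (n + 1))) i z ≤ _
  rw [Nat.add_mul]
  dsimp only [ShortComplex.map_X₁, ShortComplex.map_X₂, ShortComplex.map_X₃, AmpleVan.tw] at u₁ u₂
  change CohIII.fiberRank π (CohB1.tensorMod A (CohB1.tensorPow L (n + 1))) i z ≤
    CohIII.fiberRank π (CohB1.tensorMod (CohB1.tensorMod A N) (CohB1.tensorPow L (n + 1))) i z +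
      rankPred π (CohB1.tensorMod (AsympCoh.cok t A) (CohB1.tensorPow L (n + 1))) i z at u₁
  change CohIII.fiberRank π (CohB1.tensorMod (CohB1.tensorMod A N') (CohB1.tensorPow L n)) i z ≤
    CohIII.fiberRank π (CohB1.tensorMod A (CohB1.tensorPow L n)) i z +
      CohIII.fiberRank π (CohB1.tensorMod (AsympCoh.cok s A) (CohB1.tensorPow L n)) i z at u₂
  omega

/-- Uniform growth of the fibre ranks over a dense open of the base. -/
theorem bound_of_genDim_lt [X.IsSeparated] {H : X.Modules} (hH : CohB1.IsAmple H) (hL : PicF.IsInvertible L) :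
    ∀ (e : ℕ) (F : X.Modules), Coh.IsCoh F → genDim π F < (e : WithBot ℕ∞) → Bound π L F e := by
  intro e
  induction e with
  | zero => exact fun F hF h => bound_of_genDim_lt_zero π hL hF h 0
  | succ e IH =>
    intro F hF
    induction QCoh.filt_of_isCoh hF with
    | @zero F₀ hz =>
      intro _
      refine bound_of_genDim_lt_zero π hL hF ?_ _
      have he : CohB1.support F₀ = ∅ :=
        Set.eq_empty_iff_forall_notMem.2 fun x hx => hx
          (@ModuleCat.subsingleton_of_isZero _ _ _ ((DerSch.stalkFunctor X x).map_isZero hz))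
      rw [genDim, he, Set.preimage_empty]
      haveI : IsEmpty (IrreducibleCloseds ↥(∅ : Set (π.fiber (genericPoint T)))) :=
        ⟨fun Z => isEmptyElim Z.2.1.some⟩
      rw [topologicalKrullDim, Order.krullDim_eq_bot]
      exact WithBot.bot_lt_coe _
    | @step F₁ M φ _ _ hNc hMc hex ih =>
      intro hd
      obtain ⟨Z, j, hj, hZ, I, ι, hι, hI, hI0, ⟨e'⟩⟩ := hex
      haveI := hj; haveI := hZ; haveI := hι
      have hc := QCoh.isCoh_cokernel hNc.1 hMc φ
      have hA : Coh.IsCoh ((Coh.push j).obj I) := QCoh.isCoh_of_mono e'.inv hc (QCoh.isQCoh_pushforward j hI)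
      have hdA : genDim π ((Coh.push j).obj I) < ((e + 1 : ℕ) : WithBot ℕ∞) := by
        refine genDim_lt_of_subset π ?_ hd
        rw [← QCoh.support_iso e' hc.1]
        exact QCoh.support_of_epi hMc.1 hc.1 (cokernel.π φ)
      obtain ⟨U₁, h₁, C₁, hC₁⟩ := ih hNc (genDim_lt_of_subset π (QCoh.mem_support_of_mono hNc.1 hMc.1 φ) hd)
      obtain ⟨U₂, h₂, C₂, hC₂⟩ := bound_piece π hH hL IH j ι hI hI0 hA hdA
      obtain ⟨V, hV, hfl⟩ := exists_flatAbove π hc
      refine ⟨U₁ ⊓ U₂ ⊓ V, ⟨⟨h₁, h₂⟩, hV⟩, C₁ + C₂, ?_⟩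
      rintro z ⟨⟨hz₁, hz₂⟩, hzV⟩ m i
      haveI := AmpleVan.isEquivalence_tw (InvX.isInvertible_tensorPow hL m)
      have hinv := AmpleVan.isCoh_invertible (InvX.isInvertible_tensorPow (L := L) hL m)
      have hS : (ShortComplex.mk φ (cokernel.π φ) (cokernel.condition φ)).ShortExact :=
        .mk' (ShortComplex.exact_of_g_is_cokernel _ (cokernelIsCokernel φ)) ‹_› inferInstance
      refine ((rank_ses π (hS.map_of_exact (AmpleVan.tw (CohB1.tensorPow L m)))
        (AmpleVan.isCoh_tensor hNc hinv) (AmpleVan.isCoh_tensor hMc hinv) (AmpleVan.isCoh_tensor hc hinv)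
        (hfl.tensor (InvX.isInvertible_tensorPow hL m)) hzV i).2).trans ?_
      rw [Nat.add_mul]
      exact Nat.add_le_add (hC₁ z hz₁ m i)
        ((PBC.fiberRank_congr π ((AmpleVan.tw (CohB1.tensorPow L m)).mapIso e') i z).le.trans (hC₂ z hz₂ m i))

end Groth.Agent.FibreGrowth

end
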