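import Groth.Agent.FibreGrowth.Main
import Groth.Agent.AmpleX.EmbedOverApps
import Groth.Agent.Compactify.ProperDim
import Groth.Agent.FlatMisc.DimNear
import Groth.Agent.S2332
import Groth.Agent.S4381

/-!
# A uniform bound for the fibre ranks of the twists of a projective family
-/

set_option autoImplicit false
set_option linter.style.haveILetI false
set_option linter.unusedSectionVars false
set_option backward.isDefEq.respectTransparency false
set_option backward.isDefEq.respectTransparency.types false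
set_option maxHeartbeats 1000000
set_option synthInstance.maxHeartbeats 400000

universe u

open CategoryTheory CategoryTheory.Limits AlgebraicGeometry TopologicalSpace Opposite Topology

attribute [-instance] CategoryTheory.catToReflQuiver

noncomputable section

namespace Groth.Agent.FibreGrowth

open Groth.Agent

/-- The bound holds on a dense open of every integral closed subscheme of the base. -/
theorem exists_open_bound {X S : Scheme.{u}} [AlgebraicGeometry.IsNoetherian S] (f : X ⟶ S) [IsProper f]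
    {H : X.Modules} (hH : RelAmple.IsRelAmple f H) {F L : X.Modules} (hF : Coh.IsCoh F) (hL : PicF.IsInvertible L)
    {T : Scheme.{u}} (j : T ⟶ S) [IsClosedImmersion j] [IsIntegral T] [AlgebraicGeometry.IsNoetherian T] :
    ∃ (U : T.Opens) (N : ℕ), (U : Set T).Nonempty ∧ ∀ z ∈ U, ∀ e : ℕ,
      topologicalKrullDim ↥(f.fiber (j z)) = e → ∀ m : ℕ, 1 ≤ m → ∀ i,
        CohIII.fiberRank f (CohB1.tensorMod F (CohB1.tensorPow L m)) i (j z) ≤ N * m ^ e := by
  haveI : IsLocallyNoetherian X := LocallyOfFiniteType.isLocallyNoetherian f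
  obtain ⟨V, hV, hVne, -⟩ := exists_isAffineOpen_mem_and_subset (x := genericPoint T) (U := ⊤) trivial
  let A : Type u := Γ(T, V)
  haveI : IsNoetherianRing A := IsLocallyNoetherian.component_noetherian ⟨V, hV⟩
  haveI : Nonempty V := ⟨⟨_, hVne⟩⟩
  haveI : IsIntegral (Spec (CommRingCat.of A)) := by
    haveI : IsDomain A := inferInstanceAs (IsDomain Γ(T, V))
    infer_instance
  haveI : AlgebraicGeometry.IsNoetherian (Spec (CommRingCat.of A)) := {}
  let k : Spec (CommRingCat.of A) ⟶ S := hV.fromSpec ≫ j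
  let π := pullback.snd f k
  let q := pullback.fst f k
  haveI : IsLocallyNoetherian (pullback f k) := LocallyOfFiniteType.isLocallyNoetherian π
  haveI : CompactSpace ↥(pullback f k) := QuasiCompact.compactSpace_of_compactSpace π
  haveI : AlgebraicGeometry.IsNoetherian (pullback f k) := {}
  haveI : (pullback f k).IsSeparated := ⟨by
    rw [show terminal.from (pullback f k) = π ≫ terminal.from _ from Subsingleton.elim _ _]; infer_instance⟩
  let F₂ := (Scheme.Modules.pullback q).obj F
  let L₂ := (Scheme.Modules.pullback q).obj L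
  let H₂ := (Scheme.Modules.pullback q).obj H
  have hH₂ : CohB1.IsAmple H₂ := (S4381.result π _).1 (S2332.result f k H hH)
  have hL₂ : PicF.IsInvertible L₂ := PicClLib.isInvertible_pullback _ hL
  have hF₂ : Coh.IsCoh F₂ := ZClosLib.isCoh_pullback _ hF
  have sq := IsPullback.of_hasPullback f k
  have hkinj : Function.Injective k := by
    intro a b h
    exact hV.fromSpec.isOpenEmbedding.injective (j.isClosedEmbedding.injective h)
  haveI : IsPreimmersion k := inferInstance
  haveI : IsPreimmersion q := inferInstanceAs (IsPreimmersion (pullback.fst f k))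
  have hdim : ∀ y, topologicalKrullDim ↥(π.fiber y) = topologicalKrullDim ↥(f.fiber (k y)) := fun y => by
    refine FlatMisc.DimNear.fibre_dim_congr f π q y (k y) q.isEmbedding ?_
    ext x
    constructor
    · rintro ⟨a, ha, rfl⟩
      show (q ≫ f) a = k y
      rw [sq.w, Scheme.Hom.comp_apply, show π a = y from ha]
    · intro hx
      obtain ⟨z, hz₁, hz₂⟩ := Scheme.Pullback.exists_preimage_pullback x y (show f x = k y from hx)
      exact ⟨z, hz₂, hz₁⟩
  have hrank : ∀ (m i : ℕ) y, CohIII.fiberRank f (CohB1.tensorMod F (CohB1.tensorPow L m)) i (k y) =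
      CohIII.fiberRank π (CohB1.tensorMod F₂ (CohB1.tensorPow L₂ m)) i y := fun m i y => by
    obtain ⟨a⟩ := H23.PicMul.pull q F (CohB1.tensorPow L m)
    obtain ⟨b⟩ := HilbSnap.pullback_tensorPow q L m
    exact (PBC.fiberRank_bc sq (AmpleVan.isCoh_tensor hF (AmpleVan.isCoh_invertible
      (H23.PicMul.isInvertible_tensorPow hL m))).1 i y).symm.trans
      (PBC.fiberRank_congr π (a ≪≫ PicGrp.tensorModIso (Iso.refl _) b) i y)
  obtain ⟨r, hr, hrbound⟩ : ∃ r : ℕ, genDim π F₂ < (r : WithBot ℕ∞) ∧
      ∀ y, ∀ e : ℕ, topologicalKrullDim ↥(π.fiber y) = e → r ≤ e + 1 := by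
    obtain ⟨d, hd⟩ := HilbSnap.exists_dim_le π
    let η := genericPoint (Spec (CommRingCat.of A))
    classical
    have hex : ∃ n : ℕ, topologicalKrullDim ↥(π.fiber η) < (n : WithBot ℕ∞) :=
      ⟨d + 1, HilbPoly.lt_succ_of_le (hd η)⟩
    refine ⟨Nat.find hex, (topologicalKrullDim_subspace_le _ _).trans_lt (Nat.find_spec hex), fun y e he => ?_⟩
    refine Nat.find_min' hex (HilbPoly.lt_succ_of_le ?_)
    rw [← he]
    exact Compactify.dim_fiber_le_of_specializes π ((genericPoint_spec _).specializes (Set.mem_univ y))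
  obtain ⟨U, hU, C, hC⟩ := bound_of_genDim_lt π hH₂ hL₂ r F₂ hF₂ hr
  refine ⟨hV.fromSpec ''ᵁ U, C * 2 ^ r, ⟨_, ⟨_, hU, rfl⟩⟩, ?_⟩
  rintro _ ⟨y, hy, rfl⟩ e he m hm i
  have he' : topologicalKrullDim ↥(π.fiber y) = e := by rw [hdim]; exact he
  show CohIII.fiberRank f _ i (k y) ≤ _
  rw [hrank]
  refine (hC y hy m i).trans ?_
  rw [mul_assoc]
  refine Nat.mul_le_mul_left C ?_
  have hre := hrbound y e he'
  simp only [growth]
  split_ifs
  · exact Nat.zero_le _
  · refine (Nat.pow_le_pow_left (show m + 1 ≤ 2 * m by omega) _).trans ?_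
    rw [mul_pow]
    exact Nat.mul_le_mul (Nat.pow_le_pow_right (by norm_num) (Nat.sub_le r 1))
      (Nat.pow_le_pow_right hm (by omega))

/-- One constant bounds all fibre ranks of all twists. -/
theorem exists_bound {X S : Scheme.{u}} [AlgebraicGeometry.IsNoetherian S] (f : X ⟶ S) [IsProper f]
    {H : X.Modules} (hH : RelAmple.IsRelAmple f H) {F L : X.Modules} (hF : Coh.IsCoh F) (hL : PicF.IsInvertible L) :
    ∃ N : ℕ, ∀ (t : S) (e : ℕ), topologicalKrullDim ↥(f.fiber t) = e → ∀ m : ℕ, 1 ≤ m → ∀ i,
      CohIII.fiberRank f (CohB1.tensorMod F (CohB1.tensorPow L m)) i t ≤ N * m ^ e :=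
  HilbSnap.exists_nat_forall_mem
    (fun N => {t : S | ∀ e : ℕ, topologicalKrullDim ↥(f.fiber t) = e → ∀ m : ℕ, 1 ≤ m → ∀ i,
      CohIII.fiberRank f (CohB1.tensorMod F (CohB1.tensorPow L m)) i t ≤ N * m ^ e})
    (fun _ _ hab _ ht e he m hm i => (ht e he m hm i).trans (Nat.mul_le_mul_right _ hab))
    (fun _ j _ _ _ => exists_open_bound f hH hF hL j)

end Groth.Agent.FibreGrowth

end
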